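import Mathlib

/-!
# Nilpotent criterion of flatness, for a module in any universe
(universe-generalised copy of part of `Groth.Agent.H7Flat.FibreCriterion`)
-/

set_option autoImplicit false

universe u v

open TensorProduct

namespace Groth.Agent.H18Alg.NilFlat

variable {R : Type u} [CommRing R]

/-- Tensoring with `M` is exact on modules killed by `L` if `M/LM` is flat over `R/L`. -/
lemma lTensor_injective_of_flat_quotient {M : Type v} [AddCommGroup M] [Module R M] (L : Ideal R)
    [Module.Flat (R ⧸ L) ((R ⧸ L) ⊗[R] M)] {N' N : Type u} [AddCommGroup N'] [Module R N']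
    [Module (R ⧸ L) N'] [IsScalarTower R (R ⧸ L) N'] [AddCommGroup N] [Module R N]
    [Module (R ⧸ L) N] [IsScalarTower R (R ⧸ L) N] (f : N' →ₗ[R ⧸ L] N)
    (hf : Function.Injective f) :
    Function.Injective ((f.restrictScalars R).lTensor M) := by
  rw [LinearMap.lTensor_inj_iff_rTensor_inj]
  let e (P : Type u) [AddCommGroup P] [Module R P] [Module (R ⧸ L) P] [IsScalarTower R (R ⧸ L) P] :=
    AlgebraTensorModule.cancelBaseChange R (R ⧸ L) (R ⧸ L) P M
  have key : ∀ x, e N (f.rTensor ((R ⧸ L) ⊗[R] M) x) =
      (f.restrictScalars R).rTensor M (e N' x) := by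
    intro x
    induction x with
    | zero => simp
    | tmul p q =>
      induction q with
      | zero => simp
      | tmul a m => simp [e]
      | add q q' hq hq' => simp only [tmul_add, map_add, hq, hq']
    | add x y hx hy => simp only [map_add, hx, hy]
  intro x y h
  obtain ⟨x, rfl⟩ := (e N').surjective x
  obtain ⟨y, rfl⟩ := (e N').surjective y
  rw [← key, ← key] at h
  exact congrArg _ (Module.Flat.rTensor_preserves_injective_linearMap f hf ((e N).injective h))


variable {S : Type u} {M : Type v} [CommRing S] [AddCommGroup M] [Module S M]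

/-- `lTensor_injective_of_flat_quotient` for a submodule. -/
lemma lTensor_subtype_injective_of_flat_quotient (J : Ideal S)
    [Module.Flat (S ⧸ J) ((S ⧸ J) ⊗[S] M)] {Q : Type u} [AddCommGroup Q] [Module S Q]
    [Module (S ⧸ J) Q] [IsScalarTower S (S ⧸ J) Q] (P : Submodule S Q) :
    Function.Injective (P.subtype.lTensor M) := by
  let P' : Submodule (S ⧸ J) Q :=
    { P.toAddSubmonoid with
      smul_mem' := fun r z hz ↦ by
        obtain ⟨r, rfl⟩ := Ideal.Quotient.mk_surjective r
        rw [← Ideal.Quotient.algebraMap_eq, algebraMap_smul]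
        exact P.smul_mem r hz }
  exact lTensor_injective_of_flat_quotient J P'.subtype Subtype.val_injective

/-- `M ⊗ (J F) → M ⊗ F` is injective for free `F` if `M ⊗ J → M` is injective. -/
lemma lTensor_smul_top_injective_of_free (J : Ideal S)
    (h : Function.Injective (J.subtype.lTensor M)) (F : Type u) [AddCommGroup F] [Module S F]
    [Module.Flat S F] :
    Function.Injective ((J • (⊤ : Submodule S F)).subtype.lTensor M) := by
  let μ : J ⊗[S] F →ₗ[S] ↥(J • (⊤ : Submodule S F)) :=
    (TensorProduct.lid S F ∘ₗ J.subtype.rTensor F).codRestrict _ fun z ↦ by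
      induction z with
      | zero => simp
      | tmul j x => simpa using Submodule.smul_mem_smul j.2 (Submodule.mem_top (x := x))
      | add a b ha hb => rw [map_add]; exact add_mem ha hb
  have hμ : Function.Surjective μ := by
    rintro ⟨x, hx⟩
    suffices ∃ z, (TensorProduct.lid S F ∘ₗ J.subtype.rTensor F) z = x by
      obtain ⟨z, hz⟩ := this; exact ⟨z, Subtype.ext hz⟩
    refine Submodule.smul_induction_on hx (fun r hr n _ ↦ ⟨⟨r, hr⟩ ⊗ₜ n, by simp⟩) ?_
    rintro a b ⟨y, hy⟩ ⟨z, hz⟩
    exact ⟨y + z, by rw [map_add, hy, hz]⟩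
  have hinj : Function.Injective (((J • (⊤ : Submodule S F)).subtype ∘ₗ μ).lTensor M) := by
    have e : (J • (⊤ : Submodule S F)).subtype ∘ₗ μ =
        (TensorProduct.lid S F).toLinearMap ∘ₗ J.subtype.rTensor F := rfl
    rw [e, LinearMap.lTensor_comp, LinearMap.coe_comp]
    refine ((TensorProduct.lid S F).lTensor M).injective.comp ?_
    let a (A : Type u) [AddCommGroup A] [Module S A] := TensorProduct.assoc S M A F
    have key : ∀ z, (J.subtype.rTensor F).lTensor M (a J z) =
        a S ((J.subtype.lTensor M).rTensor F z) := by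
      intro z
      induction z with
      | zero => simp
      | tmul p q =>
        induction p with
        | zero => simp
        | tmul m j => simp [a]
        | add p p' hp hp' => simp only [add_tmul, map_add, hp, hp']
      | add x y hx hy => simp only [map_add, hx, hy]
    intro x y hxy
    obtain ⟨x, rfl⟩ := (a J).surjective x
    obtain ⟨y, rfl⟩ := (a J).surjective y
    rw [key, key] at hxy
    exact congrArg _
      (Module.Flat.rTensor_preserves_injective_linearMap _ h ((a S).injective hxy))
  intro x y hxy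
  obtain ⟨x, rfl⟩ := LinearMap.lTensor_surjective M hμ x
  obtain ⟨y, rfl⟩ := LinearMap.lTensor_surjective M hμ y
  rw [← LinearMap.lTensor_comp_apply, ← LinearMap.lTensor_comp_apply] at hxy
  exact congrArg _ (hinj hxy)

/-- `M ⊗ (J N) → M ⊗ N` is injective if `M ⊗ J → M` is and `M/JM` is flat over `S/J`. -/
lemma lTensor_smul_top_injective (J : Ideal S) (h : Function.Injective (J.subtype.lTensor M))
    [Module.Flat (S ⧸ J) ((S ⧸ J) ⊗[S] M)] (N : Type u) [AddCommGroup N] [Module S N] :
    Function.Injective ((J • (⊤ : Submodule S N)).subtype.lTensor M) := by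
  rw [injective_iff_map_eq_zero]
  intro y hy
  let π : (N →₀ S) →ₗ[S] N := Finsupp.linearCombination S id
  have hπ : Function.Surjective π := Finsupp.linearCombination_id_surjective S N
  let K := LinearMap.ker π
  let T : Submodule S (N →₀ S) := J • ⊤
  have hT : T.map π = J • (⊤ : Submodule S N) := by
    rw [Submodule.map_smul'', Submodule.map_top, LinearMap.range_eq_top.mpr hπ]
  let π' : T →ₗ[S] ↥(J • (⊤ : Submodule S N)) :=
    (π ∘ₗ T.subtype).codRestrict _ fun x ↦ hT ▸ Submodule.mem_map_of_mem x.2
  have hπ' : Function.Surjective π' := by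
    rintro ⟨x, hx⟩
    rw [← hT] at hx
    obtain ⟨z, hz, rfl⟩ := hx
    exact ⟨⟨z, hz⟩, rfl⟩
  obtain ⟨y', rfl⟩ := LinearMap.lTensor_surjective M hπ' y
  rw [← LinearMap.lTensor_comp_apply,
    show (J • (⊤ : Submodule S N)).subtype ∘ₗ π' = π ∘ₗ T.subtype from rfl,
    LinearMap.lTensor_comp_apply] at hy
  have hexπ : Function.Exact K.subtype π := π.exact_subtype_ker_map
  have hexπ' := @lTensor_exact S K (N →₀ S) N _ _ _ _ _ _ _ K.subtype π M _ _ hexπ hπ
  obtain ⟨w, hw⟩ := (hexπ' (T.subtype.lTensor M y')).mp hy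
  let q : K →ₗ[S] (N →₀ S) ⧸ T := T.mkQ ∘ₗ K.subtype
  have hex : Function.Exact (Submodule.inclusion (inf_le_left : K ⊓ T ≤ K)) q.rangeRestrict := by
    intro z
    refine ⟨fun hz ↦ ?_, ?_⟩
    · exact ⟨⟨z.1, z.2, (Submodule.Quotient.mk_eq_zero _).mp (congrArg Subtype.val hz)⟩,
        Subtype.ext rfl⟩
    · rintro ⟨v, rfl⟩
      exact Subtype.ext ((Submodule.Quotient.mk_eq_zero _).mpr v.2.2)
  have hex' := @lTensor_exact S ↥(K ⊓ T) K (LinearMap.range q) _ _ _ _ _ _ _
    (Submodule.inclusion inf_le_left) q.rangeRestrict M _ _ hex q.surjective_rangeRestrict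
  obtain ⟨w', hw'⟩ := (hex' w).mp
    (lTensor_subtype_injective_of_flat_quotient (M := M) (Q := (N →₀ S) ⧸ (J • ⊤ : Submodule S (N →₀ S)))
      J (LinearMap.range q) (by
      rw [map_zero, ← LinearMap.lTensor_comp_apply,
        show (LinearMap.range q).subtype ∘ₗ q.rangeRestrict = T.mkQ ∘ₗ K.subtype from rfl,
        LinearMap.lTensor_comp_apply, hw, ← LinearMap.lTensor_comp_apply,
        show T.mkQ ∘ₗ T.subtype = 0 from LinearMap.ext fun t ↦ (Submodule.Quotient.mk_eq_zero _).mpr t.2,
        LinearMap.lTensor_zero, LinearMap.zero_apply]))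
  have hy' : y' = (Submodule.inclusion (inf_le_right : K ⊓ T ≤ T)).lTensor M w' := by
    refine lTensor_smul_top_injective_of_free J h (N →₀ S) ?_
    rw [← hw, ← hw', ← LinearMap.lTensor_comp_apply, ← LinearMap.lTensor_comp_apply]
    rfl
  rw [hy', ← LinearMap.lTensor_comp_apply,
    show π' ∘ₗ Submodule.inclusion (inf_le_right : K ⊓ T ≤ T) = 0 from
      LinearMap.ext fun z ↦ Subtype.ext z.2.1, LinearMap.lTensor_zero, LinearMap.zero_apply]

/-- Flatness criterion for a nilpotent ideal. -/
theorem flat_of_isNilpotent (J : Ideal S) (hJ : IsNilpotent J)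
    (h : Function.Injective (J.subtype.lTensor M))
    [Module.Flat (S ⧸ J) ((S ⧸ J) ⊗[S] M)] : Module.Flat S M := by
  obtain ⟨n, hn⟩ := hJ
  suffices ∀ (k : ℕ) (N : Type u) [AddCommGroup N] [Module S N],
      J ^ k • (⊤ : Submodule S N) = ⊥ → ∀ N' : Submodule S N, Function.Injective (N'.subtype.lTensor M) by
    rw [Module.Flat.iff_lTensor_injective']
    exact fun I ↦ this n S (by rw [hn, Submodule.zero_eq_bot, Submodule.bot_smul]) I
  intro k
  induction k with
  | zero =>
    intro N _ _ hN N'
    rw [pow_zero, Ideal.one_eq_top, Submodule.top_smul] at hN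
    have : Subsingleton N := (Submodule.subsingleton_iff S).mp (subsingleton_of_top_le_bot hN.le)
    exact Function.injective_of_subsingleton _
  | succ k ih =>
    intro N _ _ hN N'
    rw [injective_iff_map_eq_zero]
    intro x hx
    let P : Submodule S N := J • ⊤
    have hP : J ^ k • (⊤ : Submodule S P) = ⊥ := by
      refine Submodule.map_injective_of_injective (f := P.subtype) Subtype.val_injective ?_
      rw [Submodule.map_smul'', Submodule.map_subtype_top, Submodule.map_bot,
        ← Submodule.mul_smul, ← pow_succ, hN]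
    let q : N' →ₗ[S] N ⧸ P := P.mkQ ∘ₗ N'.subtype
    have hex : Function.Exact (Submodule.inclusion (inf_le_left : N' ⊓ P ≤ N')) q.rangeRestrict := by
      intro z
      refine ⟨fun hz ↦ ?_, ?_⟩
      · exact ⟨⟨z.1, z.2, (Submodule.Quotient.mk_eq_zero _).mp (congrArg Subtype.val hz)⟩,
          Subtype.ext rfl⟩
      · rintro ⟨v, rfl⟩
        exact Subtype.ext ((Submodule.Quotient.mk_eq_zero _).mpr v.2.2)
    obtain ⟨y, rfl⟩ := (lTensor_exact M hex q.surjective_rangeRestrict x).mp
      (lTensor_subtype_injective_of_flat_quotient (M := M) (Q := N ⧸ (J • ⊤ : Submodule S N))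
        J (LinearMap.range q) (by
        rw [map_zero, ← LinearMap.lTensor_comp_apply,
          show (LinearMap.range q).subtype ∘ₗ q.rangeRestrict = P.mkQ ∘ₗ N'.subtype from rfl,
          LinearMap.lTensor_comp_apply, hx, map_zero]))
    let ι : ↥(N' ⊓ P) →ₗ[S] P := Submodule.inclusion inf_le_right
    have hι : Function.Injective (ι.lTensor M) := by
      have e : ι = (LinearMap.range ι).subtype ∘ₗ
          (LinearEquiv.ofInjective ι (Submodule.inclusion_injective _)).toLinearMap := rfl
      rw [e, LinearMap.lTensor_comp]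
      exact (ih P hP _).comp (LinearEquiv.lTensor M _).injective
    have : y = 0 := hι <| lTensor_smul_top_injective J h N <| by
      rw [map_zero, map_zero, ← hx, ← LinearMap.lTensor_comp_apply, ← LinearMap.lTensor_comp_apply]
      rfl
    rw [this, map_zero]

end Groth.Agent.H18Alg.NilFlat
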